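import Cfsg.Agent.ThWord.Test

/-!
# The action of the centraliser in the model on nine points

`pi9` maps the centraliser of the involution of the model to the permutations of nine points with
kernel `Q`. An element commuting with a word is then, up to a product of the generators of `Q`, one
of the lifts of the permutations commuting with the image of the word.
-/

set_option autoImplicit false
set_option maxRecDepth 100000

namespace Cfsg.Agent.ThWord

open Cfsg.Agent.ThCent Subgroup

/-- The centraliser in the model. -/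
abbrev CT : Type := ↥(centralizer ({ThLocal.za0} : Set Spor.Th))

theorem exists_pi9 : ∃ π : CT →* Equiv.Perm (Fin 9), π.ker = QC ∧
    π.range = alternatingGroup (Fin 9) ∧
    ∀ i : Fin 7, π (ThLocal.toCent (PresentedGroup.of i)) = perm9 i := by
  have := ThLocal.th_fin
  obtain ⟨-, hcard, hn, -⟩ := QC_facts
  have := hn
  let q : PC →* CT ⧸ QC := (QuotientGroup.mk' QC).comp ThLocal.toCent
  have hq : FreeGroup.lift (fun i => q (PresentedGroup.of i)) = q.comp (PresentedGroup.mk _) := by
    apply FreeGroup.ext_hom; intro b; simp [PresentedGroup.of]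
  let g : PA →* CT ⧸ QC := PresentedGroup.toGroup (f := fun i => q (PresentedGroup.of i))
    (rel_one fun l hl => by
      rw [hq, MonoidHom.comp_apply]
      rw [CPC_sub_CPA, List.mem_append] at hl
      rcases hl with hl | hl
      · rw [PresentedGroup.one_of_mem (List.mem_map_of_mem hl), map_one]
      · simp only [List.mem_cons, List.not_mem_nil, or_false] at hl
        rcases hl with rfl | rfl
        · exact (QuotientGroup.eq_one_iff _).2
            (mem_map_of_mem _ (subset_normalClosure (Or.inl rfl)))
        · exact (QuotientGroup.eq_one_iff _).2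
            (mem_map_of_mem _ (subset_normalClosure (Or.inr rfl))))
  have hg : ∀ i, g (PresentedGroup.of i) = q (PresentedGroup.of i) := fun i => by simp [g]
  have hgs : Function.Surjective g := by
    rw [← MonoidHom.range_eq_top, eq_top_iff]
    have hqs : q.range = ⊤ := MonoidHom.range_eq_top.2
      ((QuotientGroup.mk'_surjective _).comp ThLocal.toCent_surj)
    rw [← hqs, MonoidHom.range_eq_map, ← PresentedGroup.closure_range_of (CosetCert.wordRels CPC.relWords),
      Subgroup.map_le_iff_le_comap, Subgroup.closure_le]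
    rintro _ ⟨i, rfl⟩
    exact ⟨PresentedGroup.of i, hg i⟩
  obtain ⟨e⟩ := quotient_iso ThLocal.toCent_image hn
  have hqcard : Nat.card (CT ⧸ QC) = 181440 := by rw [Nat.card_congr e.toEquiv, card_alt9]
  have := card_PA.2
  have hgb : Function.Bijective g := (Nat.bijective_iff_surjective_and_card g).2
    ⟨hgs, le_antisymm (card_PA.1.trans hqcard.ge) (Nat.card_le_card_of_surjective g hgs)⟩
  let gi := MulEquiv.ofBijective g hgb
  refine ⟨phiA.comp (gi.symm.toMonoidHom.comp (QuotientGroup.mk' QC)), ?_, ?_, fun i => ?_⟩
  · rw [MonoidHom.ker_comp_of_injective _ _ phiA_injective,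
      MonoidHom.ker_comp_of_injective _ _ gi.symm.injective, QuotientGroup.ker_mk']
  · rw [MonoidHom.range_comp,
      MonoidHom.range_eq_top.2 (gi.symm.surjective.comp (QuotientGroup.mk'_surjective QC)),
      ← MonoidHom.range_eq_map, phiA_range]
  · have hi : gi (PresentedGroup.of i) = QuotientGroup.mk' QC (ThLocal.toCent (PresentedGroup.of i)) :=
      hg i
    simp only [MonoidHom.comp_apply, MulEquiv.coe_toMonoidHom]
    rw [← hi, MulEquiv.symm_apply_apply]
    exact PresentedGroup.toGroup.of (rel_one perm9_rels)

/-- The action on nine points. -/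
noncomputable def pi9 : CT →* Equiv.Perm (Fin 9) := exists_pi9.choose

theorem pi9_ker : pi9.ker = QC := exists_pi9.choose_spec.1

theorem pi9_range : pi9.range = alternatingGroup (Fin 9) := exists_pi9.choose_spec.2.1

theorem pi9_of (i : Fin 7) : pi9 (ThLocal.toCent (PresentedGroup.of i)) = perm9 i :=
  exists_pi9.choose_spec.2.2 i

/-- The permutation of a letter. -/
def letP : Nat → Equiv.Perm (Fin 9)
  | 3 => perm9 2
  | 4 => perm9 3
  | 5 => perm9 4
  | 6 => perm9 5
  | 7 => perm9 6
  | 8 => (perm9 4)⁻¹
  | 9 => (perm9 5)⁻¹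
  | 10 => (perm9 6)⁻¹
  | _ => 1

theorem pi9_word : ∀ {l : List Nat}, okA l = true →
    pi9 (ThLocal.toCent (pcW l)) = (l.map letP).prod
  | [], _ => by simp [pcW]
  | x :: l, h => by
    have hx := okA_lt h x List.mem_cons_self
    have h01 : pi9 (ThLocal.toCent (pcLet x)) = letP x := by
      obtain ⟨hlt, hne⟩ := hx
      interval_cases x
      case «1» => exact absurd rfl hne
      all_goals simp only [pcLet, letP, map_inv, pi9_of]
      all_goals rfl
    rw [pcW_cons, map_mul, map_mul, h01, List.map_cons, List.prod_cons,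
      pi9_word (l := l) (by simp only [okA, List.all_cons, Bool.and_eq_true] at h; exact h.2)]

/-- Every element of `Q` is one of the products of the generators. -/
theorem exists_prodA {y : CT} (hy : y ∈ QC) :
    ∃ n < 512, y = ThLocal.toCent (pcW (prodA qA n)) := by
  have := ThLocal.th_fin
  have hm : ∀ n, ThLocal.toCent (pcW (prodA qA n)) ∈ QC := prodA_mem fun q hq => by
    obtain ⟨i, hi, rfl⟩ := List.mem_iff_getElem.1 hq
    have := qA_mem ⟨i, hi⟩
    rwa [List.getD_eq_getElem _ _ hi] at this
  have hnd := (freshM_sound _ _ prodA_rows).1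
  let φ : Fin 512 → QC := fun n => ⟨_, hm n.val⟩
  have hinj : Function.Injective φ := fun m n e => by
    have e' : toTh (pcW (prodA qA m.val)) = toTh (pcW (prodA qA n.val)) :=
      congrArg (fun z : QC => ((z : CT) : Spor.Th)) e
    obtain ⟨r1, v1⟩ := rv_word (prodA_ok qA_ok m.val)
    obtain ⟨r2, v2⟩ := rv_word (prodA_ok qA_ok n.val)
    rw [e', v2] at v1
    have hr := ThMat.vec_inj r2 r1 v1
    exact Fin.ext ((List.inj_on_of_nodup_map hnd (List.mem_range.2 n.2) (List.mem_range.2 m.2) hr).symm)
  obtain ⟨n, hn⟩ := ((Nat.bijective_iff_injective_and_card φ).2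
    ⟨hinj, by rw [QC_facts.2.1]; simp⟩).2 ⟨y, hy⟩
  exact ⟨n, n.2, (congrArg Subtype.val hn).symm⟩

/-- An element is a listed lift times an element of `Q`, if its permutation is listed. -/
theorem exists_lift {x : CT} {R : List (List Nat)} (hR : R.all okA = true)
    (h : ∃ r ∈ R, pi9 x = (r.map letP).prod) :
    ∃ r ∈ R, ∃ n < 512, x = ThLocal.toCent (pcW (r ++ prodA qA n)) := by
  obtain ⟨r, hr, hx⟩ := h
  have hmem : (ThLocal.toCent (pcW r))⁻¹ * x ∈ QC := by
    rw [← pi9_ker, MonoidHom.mem_ker, map_mul, map_inv, hx,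
      pi9_word (List.all_eq_true.1 hR r hr), inv_mul_cancel]
  obtain ⟨n, hn, e⟩ := exists_prodA hmem
  exact ⟨r, hr, n, hn, by rw [pcW_append, map_mul, ← e, mul_inv_cancel_left]⟩

end Cfsg.Agent.ThWord
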