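import Cfsg.Agent.ThEnd.Seven
import Cfsg.Agent.ThLocal.ModelTh

/-!
# Deciding equality of words in the presented centraliser modulo the map to Th

Letters are coded as in `ThMat`: `0, 2, 3, 4, 5, 6, 7` are `a, c, d, e, s, t, u` and `8, 9, 10` the
inverses of `s, t, u` (the letter `1`, that is `b`, is not allowed). The subgroup `Q` of order `2^9`
acts regularly on the orbit of the first row of the representation of degree 248. Hence a word is
trivial in Th if it fixes that row and so do its commutators with eight involutions generating `Q`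
with `a`: then it centralises `Q`, so lies in `Q`, so is trivial.
-/

set_option autoImplicit false
set_option maxRecDepth 100000

namespace Cfsg.Agent.ThWord

open Cfsg.Agent.ThCent Subgroup

attribute [local irreducible] ThMat.uV

/-- An allowed letter. -/
def okL (x : Nat) : Bool := Nat.blt x 11 && !(Nat.beq x 1)

/-- A word in allowed letters. -/
def okA (l : List Nat) : Bool := l.all okL

/-- The generator of a letter. -/
def pcLet : Nat → PC
  | 0 => PresentedGroup.of 0
  | 2 => PresentedGroup.of 1
  | 3 => PresentedGroup.of 2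
  | 4 => PresentedGroup.of 3
  | 5 => PresentedGroup.of 4
  | 6 => PresentedGroup.of 5
  | 7 => PresentedGroup.of 6
  | 8 => (PresentedGroup.of 4)⁻¹
  | 9 => (PresentedGroup.of 5)⁻¹
  | 10 => (PresentedGroup.of 6)⁻¹
  | _ => 1

/-- A word in the presented centraliser. -/
def pcW (l : List Nat) : PC := (l.map pcLet).prod

theorem pcW_nil : pcW [] = 1 := rfl

theorem pcW_cons (x : Nat) (l : List Nat) : pcW (x :: l) = pcLet x * pcW l := by simp [pcW]

theorem pcW_append (l m : List Nat) : pcW (l ++ m) = pcW l * pcW m := by simp [pcW]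

theorem okA_lt {l : List Nat} (h : okA l = true) : ∀ x ∈ l, x < 11 ∧ x ≠ 1 := fun x hx => by
  have := List.all_eq_true.1 h x hx
  simpa [okL, Bool.eq_false_iff] using this

theorem okA_append {l m : List Nat} : okA (l ++ m) = (okA l && okA m) := List.all_append

theorem toTh_pcLet {x : Nat} (h : x < 11) (h1 : x ≠ 1) : toTh (pcLet x) = ThEnd.letG x := by
  interval_cases x
  case «1» => exact absurd rfl h1
  all_goals simp only [pcLet, map_inv, toTh_of]; rfl

theorem toTh_pcW : ∀ {l : List Nat}, okA l = true → toTh (pcW l) = (l.map ThEnd.letG).prod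
  | [], _ => by simp [pcW]
  | x :: l, h => by
    have hx := okA_lt h x List.mem_cons_self
    rw [pcW_cons, map_mul, toTh_pcLet hx.1 hx.2, List.map_cons, List.prod_cons,
      toTh_pcW (l := l) (by simp only [okA, List.all_cons, Bool.and_eq_true] at h; exact h.2)]

/-- The inverse word. -/
def invA (l : List Nat) : List Nat := l.reverse.map ThMat.invL

theorem letG_invL {x : Nat} (h : x < 11) : ThEnd.letG (ThMat.invL x) = (ThEnd.letG x)⁻¹ :=
  ThEnd.thRep_injective (by
    rw [map_inv, ThEnd.thRep_letG (ThMat.invL_lt h), ThEnd.thRep_letG h, ThMat.uV_invL h])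

theorem okL_invL : ∀ x : Fin 11, okL x.val = true → okL (ThMat.invL x.val) = true := by decide

theorem okA_invA {l : List Nat} (h : okA l = true) : okA (invA l) = true := by
  refine List.all_eq_true.2 fun y hy => ?_
  obtain ⟨x, hx, rfl⟩ := List.mem_map.1 hy
  have hx' := List.mem_reverse.1 hx
  exact okL_invL ⟨x, (okA_lt h x hx').1⟩ (List.all_eq_true.1 h x hx')

theorem toTh_invA : ∀ {l : List Nat}, okA l = true → toTh (pcW (invA l)) = (toTh (pcW l))⁻¹
  | [], _ => by simp [pcW, invA]
  | x :: l, h => by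
    have hl : okA l = true := by
      simp only [okA, List.all_cons, Bool.and_eq_true] at h; exact h.2
    have hx := okA_lt h x List.mem_cons_self
    have hi := okL_invL ⟨x, hx.1⟩ (List.all_eq_true.1 h x List.mem_cons_self)
    have hi' : ThMat.invL x < 11 ∧ ThMat.invL x ≠ 1 := by simpa [okL, Bool.eq_false_iff] using hi
    rw [show invA (x :: l) = invA l ++ [ThMat.invL x] by simp [invA], pcW_append, map_mul,
      toTh_invA hl, pcW_cons, pcW_cons, map_mul, map_mul, pcW_nil, map_one, mul_one, mul_inv_rev,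
      toTh_pcLet hi'.1 hi'.2, toTh_pcLet hx.1 hx.2, letG_invL hx.1]

/-- The first row of the image of a word. -/
noncomputable def row (l : List Nat) : Nat := ThMat.rowW ThMat.mask248 ThMat.mth l 1

/-- The first row of an element of Th. -/
noncomputable def rv (x : Spor.Th) : Fin 248 → ZMod 3 :=
  Matrix.vecMul (ThMat.vec 1) (ThMat.thRep x : GL (Fin 248) (ZMod 3)).val

theorem rv_word {l : List Nat} (hl : okA l = true) :
    ThMat.RowOK (row l) ∧ rv (toTh (pcW l)) = ThMat.vec (row l) := by
  obtain ⟨h1, h2⟩ := ThMat.row_spec' (ThMat.rowOK_of_check ThEnd.e0_ok) l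
  refine ⟨h1, ?_⟩
  rw [rv, toTh_pcW hl, ThEnd.coe_word l fun x hx => (okA_lt hl x hx).1]
  exact h2.symm

theorem rv_one : rv 1 = ThMat.vec 1 := by rw [rv, map_one, Units.val_one, Matrix.vecMul_one]

/-- The eight involutions and `a`. -/
def qA : List (List Nat) := [[2], [3, 2, 3], [4, 3, 2, 3, 4], [8, 4, 3, 2, 3, 4, 5],
  [5, 4, 3, 2, 3, 4, 8], [4, 8, 4, 3, 2, 3, 4, 5, 4], [8, 8, 4, 3, 2, 3, 4, 5, 5],
  [5, 5, 4, 3, 2, 3, 4, 8, 8], [0]]

/-- A product of some of them, chosen by the binary digits. -/
def prodA : List (List Nat) → Nat → List Nat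
  | [], _ => []
  | q :: l, n => (if n % 2 = 1 then q else []) ++ prodA l (n / 2)

theorem qA_ok : qA.all okA = true := by decide

theorem prodA_ok : ∀ {L : List (List Nat)}, L.all okA = true → ∀ n, okA (prodA L n) = true
  | [], _, _ => rfl
  | q :: L, h, n => by
    simp only [List.all_cons, Bool.and_eq_true] at h
    rw [prodA, okA_append, prodA_ok h.2 (n / 2), Bool.and_true]
    split
    · exact h.1
    · rfl

/-- The numbers are distinct modulo 4000037 from each other and from the marked residues. -/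
noncomputable def freshM (l : List Nat) : Nat → Bool :=
  List.rec (fun _ => true) (fun p _ ih acc => CosetCert.force (p % 4000037) fun k =>
    CosetCert.gate (Nat.beq (Nat.land 1 (Nat.shiftRight acc k)) 0)
      (CosetCert.force (Nat.lor acc (2 ^ k)) fun a => ih a)) l

theorem freshM_sound : ∀ (l : List Nat) (acc : Nat), freshM l acc = true →
    l.Nodup ∧ ∀ p ∈ l, acc.testBit (p % 4000037) = false
  | [], _, _ => ⟨List.nodup_nil, fun _ h => absurd h List.not_mem_nil⟩
  | p :: l, acc, h => by
    change CosetCert.force (p % 4000037) (fun k =>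
      CosetCert.gate (Nat.beq (Nat.land 1 (Nat.shiftRight acc k)) 0)
        (CosetCert.force (Nat.lor acc (2 ^ k)) fun a => freshM l a)) = true at h
    simp only [CosetCert.force_eq, CosetCert.gate_eq, Bool.and_eq_true] at h
    obtain ⟨hb, hl⟩ := h
    obtain ⟨hnd, ha⟩ := freshM_sound l _ hl
    have hb' : 1 &&& (acc >>> (p % 4000037)) = 0 := Nat.eq_of_beq_eq_true hb
    have hp : acc.testBit (p % 4000037) = false := by simp [Nat.testBit, hb']
    have hor : ∀ q ∈ l, acc.testBit (q % 4000037) = false ∧ p % 4000037 ≠ q % 4000037 := fun q hq => by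
      have := ha q hq
      rw [show Nat.lor acc (2 ^ (p % 4000037)) = acc ||| 2 ^ (p % 4000037) from rfl, Nat.testBit_or,
        Nat.testBit_two_pow] at this
      simpa using this
    refine ⟨List.nodup_cons.2 ⟨fun hm => (hor p hm).2 rfl, hnd⟩, fun q hq => ?_⟩
    rcases List.mem_cons.1 hq with rfl | hq
    · exact hp
    · exact (hor q hq).1

theorem prodA_rows : freshM ((List.range 512).map fun n => row (prodA qA n)) 0 = true := by
  decide +kernel

/-- The eight words of `ThCent.qC`. -/
theorem toTh_qC (i : Fin 8) : toTh (qC i) = toTh (pcW (qA.getD i.val [])) := by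
  have hd : (PresentedGroup.of 2 : PC)⁻¹ = PresentedGroup.of 2 := by
    refine inv_eq_of_mul_eq_one_right ?_
    exact PresentedGroup.one_of_mem (List.mem_map_of_mem (ThLocal.thGen_sq 2 (by decide) (by decide)))
  have he : (PresentedGroup.of 3 : PC)⁻¹ = PresentedGroup.of 3 := by
    refine inv_eq_of_mul_eq_one_right ?_
    exact PresentedGroup.one_of_mem (List.mem_map_of_mem (ThLocal.thGen_sq 3 (by decide) (by decide)))
  have hmk : ∀ x : Fin 7 × Bool, (PresentedGroup.mk (CosetCert.wordRels CPC.relWords)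
      (FreeGroup.mk [x]) : PC) = cond x.2 (PresentedGroup.of x.1) (PresentedGroup.of x.1)⁻¹ := by
    rintro ⟨g, b⟩
    cases b
    · show PresentedGroup.mk _ (FreeGroup.mk [(g, false)]) = (PresentedGroup.mk _ (FreeGroup.mk [(g, true)]))⁻¹
      rw [← map_inv, FreeGroup.inv_mk]; rfl
    · rfl
  have hw : ∀ l : List (Fin 7 × Bool), (PresentedGroup.mk (CosetCert.wordRels CPC.relWords)
      (FreeGroup.mk l) : PC) = (l.map fun x => cond x.2 (PresentedGroup.of x.1) (PresentedGroup.of x.1)⁻¹).prod := by
    intro l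
    induction l with
    | nil => rw [← FreeGroup.one_eq_mk, map_one]; rfl
    | cons x l ih =>
      rw [show (FreeGroup.mk (x :: l) : FreeGroup (Fin 7)) = FreeGroup.mk [x] * FreeGroup.mk l by
        rw [FreeGroup.mul_mk]; rfl, map_mul, ih, hmk, List.map_cons, List.prod_cons]
  congr 1
  fin_cases i <;>
    simp only [qC, qWord, hw, qA, pcW, List.getD, List.getElem?_cons_zero, List.getElem?_cons_succ,
      Option.getD_some, List.map_cons, List.map_nil, List.prod_cons, List.prod_nil, pcLet] <;>
    simp [mul_assoc, hd, he]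

/-- `Q` inside the centraliser in the model. -/
noncomputable abbrev QC : Subgroup ↥(centralizer ({ThLocal.za0} : Set Spor.Th)) := K.map ThLocal.toCent

theorem QC_facts : Q0 ThLocal.toCent = QC ∧ Nat.card QC = 512 ∧ QC.Normal ∧
    centralizer (QC : Set ↥(centralizer ({ThLocal.za0} : Set Spor.Th))) ≤ QC := by
  have := ThLocal.th_fin
  have : Fact (Nat.Prime 2) := ⟨Nat.prime_two⟩
  have I := ThLocal.toCent_image
  have hn := ThCent.normal I
  obtain ⟨e⟩ := quotient_iso I hn
  have h := Subgroup.card_eq_card_quotient_mul_card_subgroup QC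
  rw [Nat.card_congr e.toEquiv, card_alt9] at h
  have hle : Nat.card ↥(centralizer ({ThLocal.za0} : Set Spor.Th)) ≤ 92897280 := by
    rw [show ThLocal.za0 = (thCfg DCoset.Th.big).ι (thCfg DCoset.Th.big).P.za from
      (thCfg DCoset.Th.big).φ_a]
    exact (thCfg DCoset.Th.big).card_centralizer_le
  have h2 := (eight I).card_ge
  have h3 : Nat.card (Q0 ThLocal.toCent) ≤ Nat.card QC :=
    Subgroup.card_le_of_le (Q0_le (f := ThLocal.toCent))
  have heq : Q0 ThLocal.toCent = QC := Subgroup.eq_of_le_of_card_ge Q0_le (by omega)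
  have hc : Nat.card QC = 512 := by omega
  refine ⟨heq, hc, hn, ?_⟩
  have : QC.Normal := hn
  have hP : QC = Cfsg.pCore 2 ↥(centralizer ({ThLocal.za0} : Set Spor.Th)) := by
    refine Subgroup.eq_of_le_of_card_ge (Core.le_pCore (IsPGroup.of_card (n := 9) ?_)) ?_
    · rw [hc]; norm_num
    · rw [ThLocal.hyp_th.card, hc]; norm_num
  rw [hP]
  exact ThLocal.hyp_th.self

theorem toCent_val (w : PC) : (ThLocal.toCent w : Spor.Th) = toTh w := rfl

theorem qA_mem : ∀ i : Fin 9, ThLocal.toCent (pcW (qA.getD i.val [])) ∈ QC := by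
  intro i
  by_cases h : i.val < 8
  · rw [show ThLocal.toCent (pcW (qA.getD i.val [])) = ThLocal.toCent (qC ⟨i.val, h⟩) from
      Subtype.ext (toTh_qC ⟨i.val, h⟩).symm]
    exact mem_map_of_mem _ (qC_mem _)
  · rw [show i.val = 8 by omega]
    exact mem_map_of_mem _ (subset_normalClosure (Or.inl (by simp [qA, pcW, pcLet])))

theorem prodA_mem : ∀ {L : List (List Nat)}, (∀ q ∈ L, ThLocal.toCent (pcW q) ∈ QC) →
    ∀ n, ThLocal.toCent (pcW (prodA L n)) ∈ QC
  | [], _, _ => by rw [prodA, pcW_nil, map_one]; exact one_mem _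
  | q :: L, h, n => by
    rw [prodA, pcW_append, map_mul]
    refine mul_mem ?_ (prodA_mem (fun q' hq' => h q' (List.mem_cons_of_mem _ hq')) _)
    split
    · exact h q List.mem_cons_self
    · rw [pcW_nil, map_one]; exact one_mem _

/-- An element of `Q` fixing the first row is trivial. -/
theorem regular {y : ↥(centralizer ({ThLocal.za0} : Set Spor.Th))} (hy : y ∈ QC)
    (h : rv (y : Spor.Th) = ThMat.vec 1) : y = 1 := by
  have := ThLocal.th_fin
  have hm : ∀ n, ThLocal.toCent (pcW (prodA qA n)) ∈ QC := prodA_mem fun q hq => by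
    obtain ⟨i, hi, rfl⟩ := List.mem_iff_getElem.1 hq
    have := qA_mem ⟨i, hi⟩
    rwa [List.getD_eq_getElem _ _ hi] at this
  have hnd := (freshM_sound _ _ prodA_rows).1
  let φ : Fin 512 → QC := fun n => ⟨_, hm n.val⟩
  have hinj : Function.Injective φ := fun m n e => by
    have e' : toTh (pcW (prodA qA m.val)) = toTh (pcW (prodA qA n.val)) :=
      congrArg (fun z : QC => ((z : ↥(centralizer ({ThLocal.za0} : Set Spor.Th))) : Spor.Th)) e
    obtain ⟨r1, v1⟩ := rv_word (prodA_ok qA_ok m.val)
    obtain ⟨r2, v2⟩ := rv_word (prodA_ok qA_ok n.val)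
    rw [e', v2] at v1
    have hr := ThMat.vec_inj r2 r1 v1
    exact Fin.ext ((List.inj_on_of_nodup_map hnd (List.mem_range.2 n.2) (List.mem_range.2 m.2) hr).symm)
  have hb : Function.Bijective φ :=
    (Nat.bijective_iff_injective_and_card φ).2 ⟨hinj, by rw [QC_facts.2.1]; simp⟩
  obtain ⟨n, hn⟩ := hb.2 ⟨y, hy⟩
  have hn' : ThLocal.toCent (pcW (prodA qA n.val)) = y := congrArg Subtype.val hn
  obtain ⟨r, v⟩ := rv_word (prodA_ok qA_ok n.val)
  rw [← toCent_val, hn', h] at v
  have hr := ThMat.vec_inj (ThMat.rowOK_of_check ThEnd.e0_ok) r v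
  have h0 : row (prodA qA 0) = 1 := by decide +kernel
  have hn0 : n.val = 0 := List.inj_on_of_nodup_map hnd (List.mem_range.2 n.2)
    (List.mem_range.2 (by norm_num)) (hr.symm.trans h0.symm)
  rw [← hn', hn0, show prodA qA 0 = [] from rfl, pcW_nil, map_one]

/-- The test of triviality. -/
noncomputable def isOneA (l : List Nat) : Bool :=
  okA l && Nat.beq (row l) 1 &&
    (qA.take 8).all fun q => Nat.beq (row (l ++ q ++ invA l ++ q)) 1

theorem isOneA_spec {l : List Nat} (h : isOneA l = true) : toTh (pcW l) = 1 := by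
  simp only [isOneA, Bool.and_eq_true, List.all_eq_true] at h
  obtain ⟨⟨hl, h1⟩, hq⟩ := h
  obtain ⟨heq, -, hn, hcen⟩ := QC_facts
  set y := ThLocal.toCent (pcW l) with hy
  have hsq : ∀ q ∈ qA.take 8, ThLocal.toCent (pcW q) ∈ QC ∧
      ThLocal.toCent (pcW q) * ThLocal.toCent (pcW q) = 1 ∧ okA q = true := by
    intro q hq'
    obtain ⟨i, hi, rfl⟩ := List.mem_iff_getElem.1 hq'
    have hi8 : i < 8 := by simpa [qA] using hi
    rw [List.getElem_take, ← List.getD_eq_getElem qA [] (by simp [qA]; omega)]
    have e : ThLocal.toCent (pcW (qA.getD i [])) = ThLocal.toCent (qC ⟨i, hi8⟩) :=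
      Subtype.ext (toTh_qC ⟨i, hi8⟩).symm
    refine ⟨qA_mem ⟨i, by omega⟩, ?_, ?_⟩
    · rw [e]
      exact congrArg Subtype.val ((eight ThLocal.toCent_image).qsq ⟨i, hi8⟩)
    · exact List.all_eq_true.1 qA_ok _ (by
        rw [List.getD_eq_getElem qA [] (by simp [qA]; omega)]; exact List.getElem_mem _)
  have hcomm : ∀ q ∈ qA.take 8, ThLocal.toCent (pcW q) * y = y * ThLocal.toCent (pcW q) := by
    intro q hq'
    obtain ⟨hmem, hsq', hok⟩ := hsq q hq'
    have hinv : ThLocal.toCent (pcW (invA l)) = y⁻¹ := Subtype.ext (toTh_invA hl)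
    have hz : ThLocal.toCent (pcW (l ++ q ++ invA l ++ q)) = 1 := by
      refine regular ?_ ?_
      · rw [pcW_append, pcW_append, pcW_append, map_mul, map_mul, map_mul, hinv, ← hy]
        exact mul_mem (hn.conj_mem _ hmem y) hmem
      · have hok' : okA (l ++ q ++ invA l ++ q) = true := by
          simp only [okA_append, hl, hok, okA_invA hl, Bool.and_self]
        rw [toCent_val, (rv_word hok').2, Nat.eq_of_beq_eq_true (hq q hq')]
    rw [pcW_append, pcW_append, pcW_append, map_mul, map_mul, map_mul, hinv, ← hy] at hz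
    have h3 : y * ThLocal.toCent (pcW q) * y⁻¹ = ThLocal.toCent (pcW q) := by
      rw [eq_inv_of_mul_eq_one_left hz, inv_eq_of_mul_eq_one_right hsq']
    exact (mul_inv_eq_iff_eq_mul.1 h3).symm
  have hyQ : y ∈ QC := by
    refine hcen (mem_centralizer_iff.2 fun w hw => ?_)
    rw [SetLike.mem_coe, ← heq, Q0] at hw
    induction hw using closure_induction with
    | mem w hw =>
      rcases hw with rfl | ⟨i, rfl⟩
      · exact (Subtype.ext (mem_centralizer_singleton_iff.1 y.2)).symm
      · have hm : qA.getD i.val [] ∈ qA.take 8 := by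
          have hlt : i.val < (qA.take 8).length := by simp [qA, i.2]
          rw [List.getD_eq_getElem qA [] (by simp [qA]; omega), ← List.getElem_take (h := hlt)]
          exact List.getElem_mem hlt
        show ThLocal.toCent (qC i) * y = y * ThLocal.toCent (qC i)
        rw [show ThLocal.toCent (qC i) = ThLocal.toCent (pcW (qA.getD i.val [])) from
          Subtype.ext (toTh_qC i)]
        exact hcomm _ hm
    | one => simp
    | mul a b _ _ ha hb => rw [mul_assoc, hb, ← mul_assoc, ha, mul_assoc]
    | inv a _ ha => exact ((Commute.inv_left (show Commute a y from ha))).eq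
  have := regular hyQ (by
    rw [hy, toCent_val, (rv_word hl).2, Nat.eq_of_beq_eq_true h1])
  exact congrArg Subtype.val this

/-- Two words are equal modulo the kernel of the map to Th. -/
noncomputable def sameA (l m : List Nat) : Bool := okA l && okA m && isOneA (l ++ invA m)

/-- Two words differ modulo the kernel of the map to Th. -/
noncomputable def diffA (l m : List Nat) : Bool := okA l && okA m && !(Nat.beq (row l) (row m))

variable {H : Type*} [Group H] {f : PC →* H}

theorem eq_of_sameA (hf : toTh.ker ≤ f.ker) {l m : List Nat} (h : sameA l m = true) :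
    f (pcW l) = f (pcW m) := by
  simp only [sameA, Bool.and_eq_true] at h
  have h1 := isOneA_spec h.2
  rw [pcW_append, map_mul, toTh_invA h.1.2, ← map_inv, ← map_mul] at h1
  have h2 : f (pcW l * (pcW m)⁻¹) = 1 := hf h1
  rwa [map_mul, map_inv, mul_inv_eq_one] at h2

theorem one_of_isOneA (hf : toTh.ker ≤ f.ker) {l : List Nat} (h : isOneA l = true) :
    f (pcW l) = 1 := hf (isOneA_spec h)

theorem ne_of_diffA (hf : f.ker ≤ toTh.ker) {l m : List Nat} (h : diffA l m = true) :
    f (pcW l) ≠ f (pcW m) := by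
  simp only [diffA, Bool.and_eq_true, Bool.not_eq_true'] at h
  intro e
  have e' : pcW l * (pcW m)⁻¹ ∈ f.ker := by rw [MonoidHom.mem_ker, map_mul, map_inv, e, mul_inv_cancel]
  have h1 := hf e'
  rw [MonoidHom.mem_ker, map_mul, map_inv, mul_inv_eq_one] at h1
  have h2 := congrArg rv h1
  rw [(rv_word h.1.1).2, (rv_word h.1.2).2] at h2
  rw [ThMat.vec_inj (rv_word h.1.1).1 (rv_word h.1.2).1 h2, Nat.beq_refl] at h
  exact Bool.noConfusion h.2

theorem check_relator : sameA [5, 0] [0, 5] = true := by decide +kernel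

end Cfsg.Agent.ThWord
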